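import Mathlib
import Cfsg.Agent.Helper96.StN.Defs
import Cfsg.Agent.Helper96.UceCover

/-!
# Commutators of lifts in a central extension

For a central extension `p : E → D` the commutator of two lifts only depends on the elements of
`D`; this gives a function `lc : D → D → E`.
-/

set_option autoImplicit false

namespace Cfsg.Agent.Helper96.StLift

open scoped commutatorElement
open Cfsg.Agent.Helper96.StN

variable {D : Type*} [Group D] {E : Type*} [Group E] {p : E →* D}

/-- the commutator of (arbitrary) lifts of `a` and `b` -/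
noncomputable def lc (hp : Function.Surjective p) (a b : D) : E :=
  ⁅Function.surjInv hp a, Function.surjInv hp b⁆

variable (hp : Function.Surjective p) (hc : p.ker ≤ Subgroup.center E)

include hc in
theorem commutator_eq_of_map_eq {x y x' y' : E} (hx : p x = p x') (hy : p y = p y') :
    ⁅x, y⁆ = ⁅x', y'⁆ := by
  apply UceCover.commutatorElement_eq_of_central
  · apply hc
    rw [MonoidHom.mem_ker, map_mul, map_inv, hx, inv_mul_cancel]
  · apply hc
    rw [MonoidHom.mem_ker, map_mul, map_inv, hy, inv_mul_cancel]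

include hc in
theorem lc_eq (x y : E) : ⁅x, y⁆ = lc hp (p x) (p y) := by
  unfold lc
  apply commutator_eq_of_map_eq hc
  · rw [Function.surjInv_eq hp]
  · rw [Function.surjInv_eq hp]

include hc in
theorem lc_eq' {a b : D} {x y : E} (hx : p x = a) (hy : p y = b) : ⁅x, y⁆ = lc hp a b := by
  subst hx hy
  exact lc_eq hp hc x y

theorem map_lc (a b : D) : p (lc hp a b) = ⁅a, b⁆ := by
  unfold lc
  rw [map_commutatorElement, Function.surjInv_eq hp, Function.surjInv_eq hp]

include hc in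
theorem lc_mem_center {a b : D} (h : Commute a b) : lc hp a b ∈ Subgroup.center E := by
  apply hc
  rw [MonoidHom.mem_ker, map_lc, commutatorElement_eq_one_iff_commute]
  exact h

include hc in
theorem lc_conj (g : E) (a b : D) :
    g * lc hp a b * g⁻¹ = lc hp (p g * a * (p g)⁻¹) (p g * b * (p g)⁻¹) := by
  obtain ⟨x, rfl⟩ := hp a
  obtain ⟨y, rfl⟩ := hp b
  rw [← lc_eq hp hc, ← map_inv, ← map_mul, ← map_mul, ← map_mul, ← map_mul, ← lc_eq hp hc]
  simp only [commutatorElement_def]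
  group

theorem lc_inv (a b : D) : (lc hp a b)⁻¹ = lc hp b a := by
  unfold lc
  rw [commutatorElement_inv]

include hc in
theorem lc_mul_left (x : E) (a' b : D) :
    lc hp (p x * a') b = x * lc hp a' b * x⁻¹ * lc hp (p x) b := by
  obtain ⟨x', rfl⟩ := hp a'
  obtain ⟨y, rfl⟩ := hp b
  rw [← map_mul, ← lc_eq hp hc, ← lc_eq hp hc, ← lc_eq hp hc]
  simp only [commutatorElement_def]
  group

include hc in
theorem lc_mul_right (y : E) (a b' : D) :
    lc hp a (p y * b') = lc hp a (p y) * (y * lc hp a b' * y⁻¹) := by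
  obtain ⟨x, rfl⟩ := hp a
  obtain ⟨y', rfl⟩ := hp b'
  rw [← map_mul, ← lc_eq hp hc, ← lc_eq hp hc, ← lc_eq hp hc]
  simp only [commutatorElement_def]
  group

include hc in
/-- central values: `lc` is multiplicative in the first variable -/
theorem lc_mul_left_of_commute {a a' b : D} (h : Commute a' b) :
    lc hp (a * a') b = lc hp a' b * lc hp a b := by
  obtain ⟨x, rfl⟩ := hp a
  rw [lc_mul_left hp hc]
  have hz := lc_mem_center hp hc h
  rw [Subgroup.mem_center_iff] at hz
  rw [hz x, mul_inv_cancel_right]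

include hc in
theorem lc_mul_right_of_commute {a b b' : D} (h : Commute a b') :
    lc hp a (b * b') = lc hp a b * lc hp a b' := by
  obtain ⟨y, rfl⟩ := hp b
  rw [lc_mul_right hp hc]
  have hz := lc_mem_center hp hc h
  rw [Subgroup.mem_center_iff] at hz
  rw [hz y, mul_inv_cancel_right]

include hc in
theorem lc_one_left (b : D) : lc hp 1 b = 1 := by
  have h := lc_eq hp hc (1 : E) (Function.surjInv hp b)
  rw [map_one, Function.surjInv_eq hp] at h
  rw [← h, commutatorElement_one_left]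

include hc in
theorem lc_one_right (a : D) : lc hp a 1 = 1 := by
  have h := lc_eq hp hc (Function.surjInv hp a) (1 : E)
  rw [map_one, Function.surjInv_eq hp] at h
  rw [← h, commutatorElement_one_right]

include hc in
/-- **spare element lemma**: if `a` commutes with `b` and `c` then lifts of `a` and `⁅b, c⁆`
commute -/
theorem lc_spare {a b c : D} (hab : Commute a b) (hac : Commute a c) : lc hp a ⁅b, c⁆ = 1 := by
  obtain ⟨x, rfl⟩ := hp a
  obtain ⟨y, rfl⟩ := hp b
  obtain ⟨z, rfl⟩ := hp c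
  rw [← map_commutatorElement, ← lc_eq hp hc, commutatorElement_eq_one_iff_commute]
  have h1 : x * ⁅y, z⁆ * x⁻¹ = ⁅x * y * x⁻¹, x * z * x⁻¹⁆ := by
    simp only [commutatorElement_def]; group
  have h2 : ⁅x * y * x⁻¹, x * z * x⁻¹⁆ = ⁅y, z⁆ := by
    apply commutator_eq_of_map_eq hc
    · rw [map_mul, map_mul, map_inv, hab.eq, mul_inv_cancel_right]
    · rw [map_mul, map_mul, map_inv, hac.eq, mul_inv_cancel_right]
  rw [h2] at h1
  exact mul_inv_eq_iff_eq_mul.mp h1

omit hp in
/-- the commutator identity behind Milnor's proof -/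
theorem milnor_identity (u v w : E) (huw : Commute u w) (hab : Commute ⁅u, v⁆ ⁅v, w⁆)
    (hb : Commute ⁅v, w⁆ ⁅⁅u, v⁆, w⁆) : ⁅u, ⁅v, w⁆⁆ = ⁅⁅u, v⁆, w⁆ := by
  have h1 : u * ⁅v, w⁆ * u⁻¹ = ⁅⁅u, v⁆ * v, w⁆ := by
    have e : u * w * u⁻¹ = w := by rw [huw.eq, mul_inv_cancel_right]
    calc u * ⁅v, w⁆ * u⁻¹ = ⁅u * v * u⁻¹, u * w * u⁻¹⁆ := by
          simp only [commutatorElement_def]; group
      _ = ⁅⁅u, v⁆ * v, w⁆ := by
          rw [e]
          congr 1
          simp only [commutatorElement_def]; group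
  have h2 : ⁅⁅u, v⁆ * v, w⁆ = ⁅u, v⁆ * ⁅v, w⁆ * (w * ⁅u, v⁆⁻¹ * w⁻¹) := by
    simp only [commutatorElement_def]; group
  have h3 : ⁅u, ⁅v, w⁆⁆ = u * ⁅v, w⁆ * u⁻¹ * ⁅v, w⁆⁻¹ := rfl
  rw [h3, h1, h2, hab.eq]
  have h4 : ⁅v, w⁆ * ⁅u, v⁆ * (w * ⁅u, v⁆⁻¹ * w⁻¹) * ⁅v, w⁆⁻¹ =
      ⁅v, w⁆ * ⁅⁅u, v⁆, w⁆ * ⁅v, w⁆⁻¹ := by
    simp only [commutatorElement_def]; group
  rw [h4, hb.eq, mul_inv_cancel_right]

end Cfsg.Agent.Helper96.StLift
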