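import Mathlib
import Cfsg.Agent.Helper96.StLift.Basic

/-!
# Symbols of commuting root elements in a central extension of a group with a Steinberg family
-/

set_option autoImplicit false

namespace Cfsg.Agent.Helper96.StLift

open scoped commutatorElement
open Cfsg.Agent.Helper96.StN

variable {D : Type*} [Group D] {E : Type*} [Group E] {p : E →* D}
  {K : Type*} [Field K] {ι : Type*} {X : ι → ι → K → D}

/-- lifts of commuting root elements commute -/
def CL (hp : Function.Surjective p) (X : ι → ι → K → D) : Prop :=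
  ∀ i j k l, i ≠ j → k ≠ l → j ≠ k → i ≠ l → ∀ t u, lc hp (X i j t) (X k l u) = 1

variable (hp : Function.Surjective p) (hc : p.ker ≤ Subgroup.center E) (hX : StRel X)

include hX in
theorem root_commute {i j k l : ι} (hij : i ≠ j) (hkl : k ≠ l) (hjk : j ≠ k) (hil : i ≠ l)
    (t u : K) : Commute (X i j t) (X k l u) :=
  hX.comm i j k l hij hkl hjk hil t u

include hX in
theorem root_eq_commutator {k m l : ι} (hkm : k ≠ m) (hml : m ≠ l) (hkl : k ≠ l) (t u : K) :
    ⁅X k m t, X m l u⁆ = X k l (t * u) := by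
  rw [commutatorElement_def]
  exact hX.mul k m l hkm hml hkl t u

include hc hX in
/-- with a spare index the lifts of two commuting root elements commute -/
theorem cl_of_spare {i j k l m : ι} (hij : i ≠ j) (hkl : k ≠ l) (hjk : j ≠ k) (hil : i ≠ l)
    (hmi : m ≠ i) (hmj : m ≠ j) (hmk : m ≠ k) (hml : m ≠ l) (t u : K) :
    lc hp (X i j t) (X k l u) = 1 := by
  have h := root_eq_commutator hX hmk.symm hml hkl u 1
  rw [mul_one] at h
  rw [← h]
  exact lc_spare hp hc (root_commute hX hij hmk.symm hjk hmi.symm t u)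
    (root_commute hX hij hml hmj.symm hil t 1)

include hc hX in
theorem lc_root_add_left {i j k l : ι} (hij : i ≠ j) (hkl : k ≠ l) (hjk : j ≠ k) (hil : i ≠ l)
    (t t' u : K) :
    lc hp (X i j (t + t')) (X k l u) = lc hp (X i j t) (X k l u) * lc hp (X i j t') (X k l u) := by
  rw [add_comm, hX.add i j hij, lc_mul_left_of_commute hp hc (root_commute hX hij hkl hjk hil t u)]

include hc hX in
theorem lc_root_add_right {i j k l : ι} (hij : i ≠ j) (hkl : k ≠ l) (hjk : j ≠ k) (hil : i ≠ l)
    (t u u' : K) :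
    lc hp (X i j t) (X k l (u + u')) = lc hp (X i j t) (X k l u) * lc hp (X i j t) (X k l u') := by
  rw [hX.add k l hkl, lc_mul_right_of_commute hp hc (root_commute hX hij hkl hjk hil t u')]

include hc hX in
theorem lc_root_zero_left {i j : ι} (hij : i ≠ j) (b : D) : lc hp (X i j 0) b = 1 := by
  rw [X_zero hX hij, lc_one_left hp hc]

include hc hX in
theorem lc_root_zero_right {k l : ι} (hkl : k ≠ l) (a : D) : lc hp a (X k l 0) = 1 := by
  rw [X_zero hX hkl, lc_one_right hp hc]

include hc hX in
theorem lc_root_neg_left {i j k l : ι} (hij : i ≠ j) (hkl : k ≠ l) (hjk : j ≠ k) (hil : i ≠ l)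
    (t u : K) : lc hp (X i j (-t)) (X k l u) = (lc hp (X i j t) (X k l u))⁻¹ := by
  rw [eq_inv_iff_mul_eq_one, ← lc_root_add_left hp hc hX hij hkl hjk hil, neg_add_cancel,
    lc_root_zero_left hp hc hX hij]

include hc hX in
theorem lc_root_neg_right {i j k l : ι} (hij : i ≠ j) (hkl : k ≠ l) (hjk : j ≠ k) (hil : i ≠ l)
    (t u : K) : lc hp (X i j t) (X k l (-u)) = (lc hp (X i j t) (X k l u))⁻¹ := by
  rw [eq_inv_iff_mul_eq_one, ← lc_root_add_right hp hc hX hij hkl hjk hil, neg_add_cancel,
    lc_root_zero_right hp hc hX hkl]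

include hc hX in
/-- invariance of the symbol of a commuting pair under a monomial element -/
theorem lc_root_mono {i j k l : ι} (hij : i ≠ j) (hkl : k ≠ l) (hjk : j ≠ k) (hil : i ≠ l)
    {h : D} {π : Equiv.Perm ι} {pp : ι → K} (hmono : IsMono X h π pp) (t u : K) :
    lc hp (X i j t) (X k l u) =
      lc hp (X (π i) (π j) (pp i * (pp j)⁻¹ * t)) (X (π k) (π l) (pp k * (pp l)⁻¹ * u)) := by
  obtain ⟨g, rfl⟩ := hp h
  have h1 := lc_conj hp hc g (X i j t) (X k l u)
  rw [hmono.2 i j hij, hmono.2 k l hkl] at h1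
  rw [← h1]
  have hz := lc_mem_center hp hc (root_commute hX hij hkl hjk hil t u)
  rw [Subgroup.mem_center_iff] at hz
  rw [hz g, mul_inv_cancel_right]

end Cfsg.Agent.Helper96.StLift
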