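import Mathlib
import Cfsg.Agent.Helper96.StLift.Root
import Cfsg.Agent.Helper72.StLL4
import Cfsg.Agent.Helper75.StLiftDisj
import Cfsg.Agent.Helper59.StLL6

/-!
# Lifts of commuting root elements commute: all cases
-/

set_option autoImplicit false

namespace Cfsg.Agent.Helper96.StLift

open scoped commutatorElement
open Cfsg.Agent.Helper96.StN Cfsg.Agent.Helper72.StLL4 Cfsg.Agent.Helper75.StLiftDisj
  Cfsg.Agent.Helper59.StLL6

variable {D : Type*} [Group D] {E : Type*} [Group E] {p : E →* D}
  {K : Type*} [Field K] {ι : Type*} {X : ι → ι → K → D}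

theorem exists_not_mem_of_card_lt [Fintype ι] [DecidableEq ι] (S : Finset ι)
    (h : S.card < Fintype.card ι) : ∃ m, m ∉ S := by
  by_contra hcon
  push_neg at hcon
  have : S = Finset.univ := Finset.eq_univ_iff_forall.mpr hcon
  rw [this, Finset.card_univ] at h
  exact lt_irrefl _ h

theorem third_of_card [Fintype ι] [DecidableEq ι] (h : 3 ≤ Fintype.card ι) (i j : ι) :
    ∃ k, k ≠ i ∧ k ≠ j := by
  obtain ⟨m, hm⟩ := exists_not_mem_of_card_lt ({i, j} : Finset ι)
    (lt_of_le_of_lt Finset.card_le_two (by omega))
  simp only [Finset.mem_insert, Finset.mem_singleton, not_or] at hm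
  exact ⟨m, hm.1, hm.2⟩

theorem fourth_of_card [Fintype ι] [DecidableEq ι] (h : 4 ≤ Fintype.card ι) (i j k : ι) :
    ∃ m, m ≠ i ∧ m ≠ j ∧ m ≠ k := by
  obtain ⟨m, hm⟩ := exists_not_mem_of_card_lt ({i, j, k} : Finset ι)
    (lt_of_le_of_lt Finset.card_le_three (by omega))
  simp only [Finset.mem_insert, Finset.mem_singleton, not_or] at hm
  exact ⟨m, hm.1, hm.2.1, hm.2.2⟩

theorem cl_of_card [DecidableEq ι] [Fintype ι] [Fintype K] (hp : Function.Surjective p)
    (hc : p.ker ≤ Subgroup.center E) (hX : StRel X)
    (h : 5 ≤ Fintype.card ι ∨ (Fintype.card ι = 4 ∧ 3 ≤ Fintype.card K) ∨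
      (Fintype.card ι = 3 ∧ Fintype.card K ≠ 2 ∧ Fintype.card K ≠ 4)) : CL hp X := by
  have hcard3 : 3 ≤ Fintype.card ι := by
    rcases h with h | h | h <;> omega
  have h3 := third_of_card hcard3
  intro i j k l hij hkl hjk hil t u
  by_cases hspare : ∃ m, m ∉ ({i, j, k, l} : Finset ι)
  · obtain ⟨m, hm⟩ := hspare
    simp only [Finset.mem_insert, Finset.mem_singleton, not_or] at hm
    exact cl_of_spare hp hc hX hij hkl hjk hil hm.1 hm.2.1 hm.2.2.1 hm.2.2.2 t u
  · push_neg at hspare
    have huniv : ({i, j, k, l} : Finset ι) = Finset.univ := Finset.eq_univ_iff_forall.mpr hspare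
    have hcard : Fintype.card ι = ({i, j, k, l} : Finset ι).card := by
      rw [huniv, Finset.card_univ]
    by_cases hik : i = k
    · subst hik
      by_cases hjl : j = l
      · subst hjl
        exfalso
        have : ({i, j, i, j} : Finset ι).card ≤ 2 := by
          have e : ({i, j, i, j} : Finset ι) = {i, j} := by
            ext x; simp only [Finset.mem_insert, Finset.mem_singleton]; tauto
          rw [e]; exact Finset.card_le_two
        omega
      · -- shared first index
        have hle : ({i, j, i, l} : Finset ι).card ≤ 3 := by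
          have e : ({i, j, i, l} : Finset ι) = {i, j, l} := by
            ext x; simp only [Finset.mem_insert, Finset.mem_singleton]; tauto
          rw [e]; exact Finset.card_le_three
        rcases h with h | h | h
        · omega
        · omega
        · obtain ⟨a, ha, ha3⟩ := exists_cube_ne_one h.2.1 h.2.2
          exact cl_shared_first hp hc hX h3 ha ha3 hij hil hjl t u
    · by_cases hjl : j = l
      · subst hjl
        have hle : ({i, j, k, j} : Finset ι).card ≤ 3 := by
          have e : ({i, j, k, j} : Finset ι) = {i, j, k} := by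
            ext x; simp only [Finset.mem_insert, Finset.mem_singleton]; tauto
          rw [e]; exact Finset.card_le_three
        rcases h with h | h | h
        · omega
        · omega
        · obtain ⟨a, ha, ha3⟩ := exists_cube_ne_one h.2.1 h.2.2
          exact cl_shared_second hp hc hX h3 ha ha3 hij.symm hjk hik t u
      · -- disjoint
        have hle : ({i, j, k, l} : Finset ι).card ≤ 4 := Finset.card_le_four
        have h4 : ({i, j, k, l} : Finset ι).card = 4 := by
          rw [Finset.card_insert_of_notMem, Finset.card_insert_of_notMem,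
            Finset.card_insert_of_notMem, Finset.card_singleton]
          · simp only [Finset.mem_singleton]; exact hkl
          · simp only [Finset.mem_insert, Finset.mem_singleton, not_or]; exact ⟨hjk, hjl⟩
          · simp only [Finset.mem_insert, Finset.mem_singleton, not_or]; exact ⟨hij, hik, hil⟩
        rcases h with h | h | h
        · omega
        · exact cl_disjoint hp hc hX h3 h.2 hij hkl hik hil hjk hjl t u
        · omega

end Cfsg.Agent.Helper96.StLift
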