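import Mathlib
import Cfsg.Agent.Helper96.StLift.CLAll
import Cfsg.Agent.Helper14.StNM
import Cfsg.Agent.Helper72.StLL2
import Cfsg.Agent.Helper40.StLL5

/-!
# Central extensions of `SL_n(K)` carry a lifted Steinberg family
-/

set_option autoImplicit false

namespace Cfsg.Agent.Helper96.StLift

open scoped commutatorElement
open Cfsg.Agent.Helper96.StN Cfsg.Agent.Helper40.StLL5 Matrix Cfsg.Agent.Helper72.StLL2
  Cfsg.Agent.Helper59.StLL6

universe u

theorem sl_lift {K : Type u} [Field K] [Fintype K] (n : ℕ)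
    (hcase : 5 ≤ n ∨ (n = 4 ∧ 3 ≤ Fintype.card K) ∨
      (n = 3 ∧ Fintype.card K ≠ 2 ∧ Fintype.card K ≠ 4))
    (E : Type u) [Group E] (p : E →* SpecialLinearGroup (Fin n) K)
    (hp : Function.Surjective p) (hc : p.ker ≤ Subgroup.center E) :
    ∃ Z : Fin n → Fin n → K → E, StRel Z ∧
      ∀ i j (h : i ≠ j) t, p (Z i j t) = SpecialLinearGroup.transvection h t := by
  have hX := Cfsg.Agent.Helper14.StNM.transvection_stRel (K := K) (n := n)
  set X : Fin n → Fin n → K → SpecialLinearGroup (Fin n) K := fun i j t =>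
    if h : i ≠ j then SpecialLinearGroup.transvection h t else 1 with hXdef
  have hcase' : 5 ≤ Fintype.card (Fin n) ∨ (Fintype.card (Fin n) = 4 ∧ 3 ≤ Fintype.card K) ∨
      (Fintype.card (Fin n) = 3 ∧ Fintype.card K ≠ 2 ∧ Fintype.card K ≠ 4) := by
    rw [Fintype.card_fin]; exact hcase
  have hCL : CL hp X := cl_of_card hp hc hX hcase'
  have hfin : ∃ Z : Fin n → Fin n → K → E, StRel Z ∧ ∀ i j, i ≠ j → ∀ t, p (Z i j t) = X i j t := by
    by_cases h4 : 4 ≤ n
    · exact exists_lift_of_CL hp hc hX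
        (fourth_of_card (by rw [Fintype.card_fin]; exact h4)) hCL
    · have hn3 : n = 3 := by rcases hcase with h | h | h <;> omega
      have hK : Fintype.card K ≠ 2 ∧ Fintype.card K ≠ 4 := by
        rcases hcase with h | h | h
        · omega
        · omega
        · exact h.2
      have hK2 : 2 ≤ Fintype.card K := Fintype.one_lt_card
      exact exists_lift_three (by rw [Fintype.card_fin]; exact hn3) hp hc hX hCL
        (by have := hK.1; omega) (fun S hS => subring_cubes_eq_top hK.2 S hS)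
  obtain ⟨Z, hZ, hpZ⟩ := hfin
  refine ⟨Z, hZ, fun i j h t => ?_⟩
  rw [hpZ i j h t, hXdef]
  exact dif_pos h

end Cfsg.Agent.Helper96.StLift
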